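import Groth.Agent.FinDualLib.CoUniv
import Groth.Agent.DualBCLib.GorFibre
import Groth.Agent.DualCxLib.DimFn

/-!
# Dualizing complexes and finite homomorphisms
-/

set_option autoImplicit false
set_option linter.all false
set_option maxHeartbeats 1000000

universe u

open CategoryTheory CategoryTheory.Limits
open Groth.Agent DTen
open DTenLib.Point (hH sg)

attribute [local instance] HasDerivedCategory.standard

noncomputable section

namespace FinDualLib

open Groth.Agent.DualCxLib

section Tr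

variable {A S : Type u} [CommRing A] [CommRing S] [Algebra A S]

local notation "φ" => algebraMap A S

/-- Restriction of a module. -/
def resIso (N : Type u) [AddCommGroup N] [Module A N] [Module S N] [IsScalarTower A S N] :
    (ModuleCat.restrictScalars.{u} φ).obj (ModuleCat.of S N) ≅ ModuleCat.of A N where
  hom := ModuleCat.ofHom (X := ((ModuleCat.restrictScalars.{u} φ).obj (ModuleCat.of S N) : Type u)) (Y := N)
    { toFun := fun x => x
      map_add' := fun _ _ => rfl
      map_smul' := fun r x => algebraMap_smul S r (show N from x) }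
  inv := ModuleCat.ofHom (X := N) (Y := ((ModuleCat.restrictScalars.{u} φ).obj (ModuleCat.of S N) : Type u))
    { toFun := fun x => x
      map_add' := fun _ _ => rfl
      map_smul' := fun r x => (algebraMap_smul S r x).symm }

/-- Restriction of a module in degree zero. -/
def resSg (N : Type u) [AddCommGroup N] [Module A N] [Module S N] [IsScalarTower A S N] :
    (DRing.restrictD φ).obj (sg (ModuleCat.of S N) 0) ≅ sg (ModuleCat.of A N) 0 :=
  (DRing.restrictD φ).mapIso ((DerivedCategory.singleFunctorIsoCompQ (ModuleCat.{u} S) 0).app (ModuleCat.of S N)) ≪≫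
    (resFactors φ).app _ ≪≫
    DerivedCategory.Q.mapIso ((HomologicalComplex.singleMapHomologicalComplex
      (ModuleCat.restrictScalars.{u} φ) (ComplexShape.up ℤ) 0).app (ModuleCat.of S N) ≪≫
      (HomologicalComplex.single (ModuleCat.{u} A) (ComplexShape.up ℤ) 0).mapIso
        (resIso N)) ≪≫
    ((DerivedCategory.singleFunctorIsoCompQ (ModuleCat.{u} A) 0).app (ModuleCat.of A N)).symm

variable {ω : Dual.D A} {Z : Dual.D S} {ε : (DRing.restrictD (algebraMap A S)).obj Z ⟶ ω}

/-- `Ext` over `S` into the couniversal object is `Ext` over `A`. -/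
theorem exists_tr (hε : IsCoUniv φ ε) (N : Type u) [AddCommGroup N] [Module A N] [Module S N]
    [IsScalarTower A S N] (i : ℤ) :
    ∃ T : Ext Z (ModuleCat.of S N) i → Ext ω (ModuleCat.of A N) i, Function.Bijective T ∧
      (∀ f g, T (f + g) = T f + T g) ∧ ∀ (r : A) f, T (φ r • f) = r • T f := by
  let c := ((DRing.restrictD φ).commShiftIso i).app Z
  let j := resSg (A := A) (S := S) N
  let εi : (DRing.restrictD φ).obj (Z⟦i⟧) ⟶ ω⟦i⟧ := c.hom ≫ ε⟦i⟧'
  have hεi : IsCoUniv φ εi := fun W => by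
    let e : (W⟦-i⟧)⟦i⟧ ≅ W := (shiftFunctorCompIsoId (Dual.D S) (-i) i (neg_add_cancel i)).app W
    let c' : (DRing.restrictD φ).obj ((W⟦-i⟧)⟦i⟧) ≅ ((DRing.restrictD φ).obj (W⟦-i⟧))⟦i⟧ :=
      ((DRing.restrictD φ).commShiftIso i).app _
    have hf : ∀ f₀ : W⟦-i⟧ ⟶ Z, (DRing.restrictD φ).map (e.inv ≫ f₀⟦i⟧') ≫ εi =
        (DRing.restrictD φ).map e.inv ≫ c'.hom ≫ ((DRing.restrictD φ).map f₀ ≫ ε)⟦i⟧' := fun f₀ => by
      rw [Functor.map_comp, Category.assoc, Functor.map_comp]
      refine congrArg ((DRing.restrictD φ).map e.inv ≫ ·) ?_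
      exact (reassoc_of% (((DRing.restrictD φ).commShiftIso i).hom.naturality f₀)) (ε⟦i⟧')
    have hrep : ∀ f : W ⟶ Z⟦i⟧, ∃ f₀ : W⟦-i⟧ ⟶ Z, f = e.inv ≫ f₀⟦i⟧' := fun f => by
      obtain ⟨f₀, h⟩ := (shiftFunctor (Dual.D S) i).map_surjective (e.hom ≫ f)
      exact ⟨f₀, by rw [h, e.inv_hom_id_assoc]⟩
    refine ⟨fun f g h => ?_, fun y => ?_⟩
    · obtain ⟨f₀, rfl⟩ := hrep f
      obtain ⟨g₀, rfl⟩ := hrep g
      change (DRing.restrictD φ).map _ ≫ εi = (DRing.restrictD φ).map _ ≫ εi at h
      rw [hf, hf, cancel_epi, cancel_epi] at h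
      rw [(hε _).1 ((shiftFunctor (Dual.D A) i).map_injective h)]
    · obtain ⟨h, hh⟩ := (shiftFunctor (Dual.D A) i).map_surjective
        (c'.inv ≫ (DRing.restrictD φ).map e.hom ≫ y)
      obtain ⟨f₀, hf₀⟩ := (hε _).2 h
      refine ⟨e.inv ≫ f₀⟦i⟧', ?_⟩
      show (DRing.restrictD φ).map _ ≫ εi = y
      rw [hf, show (DRing.restrictD φ).map f₀ ≫ ε = h from hf₀, hh, c'.hom_inv_id_assoc, ← Functor.map_comp_assoc,
        e.inv_hom_id, CategoryTheory.Functor.map_id, Category.id_comp]
  refine ⟨fun f => j.inv ≫ (DRing.restrictD φ).map f ≫ εi, ⟨fun f g h => ?_, fun y => ?_⟩, fun f g => ?_,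
    fun r f => ?_⟩
  · exact (hεi _).1 ((cancel_epi j.inv).1 h)
  · obtain ⟨f, hf⟩ := (hεi _).2 (j.hom ≫ y)
    exact ⟨f, by show j.inv ≫ (DRing.restrictD φ).map f ≫ εi = y; rw [show (DRing.restrictD φ).map f ≫ εi = j.hom ≫ y from hf, j.inv_hom_id_assoc]⟩
  · show j.inv ≫ (DRing.restrictD φ).map (f + g) ≫ εi = _
    rw [Functor.map_add, Preadditive.add_comp, Preadditive.comp_add]
  · show j.inv ≫ (DRing.restrictD φ).map (φ r • f) ≫ εi = _
    rw [restrictD_smul, Linear.smul_comp, Linear.comp_smul]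

theorem subsingleton_ext_of (hε : IsCoUniv φ ε) (N : Type u) [AddCommGroup N] [Module A N] [Module S N]
    [IsScalarTower A S N] (i : ℤ) (h : Subsingleton (Ext ω (ModuleCat.of A N) i)) :
    Subsingleton (Ext Z (ModuleCat.of S N) i) := by
  obtain ⟨T, hT, -⟩ := exists_tr hε N i
  exact hT.1.subsingleton

theorem bounds_of (hε : IsCoUniv φ ε) {a b : ℤ}
    (hab : ∀ (M : Type u) [AddCommGroup M] [Module A M] (i : ℤ), (i < a ∨ b < i) →
      Subsingleton (Dual.inD A M ⟶ ω⟦i⟧))
    (N : Type u) [AddCommGroup N] [Module S N] (i : ℤ) (hi : i < a ∨ b < i) :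
    Subsingleton (Ext Z (ModuleCat.of S N) i) := by
  letI : Module A N := Module.compHom N φ
  haveI : IsScalarTower A S N := IsScalarTower.of_algebraMap_smul fun _ _ => rfl
  exact subsingleton_ext_of hε N i (hab N i hi)

variable [IsNoetherianRing A] [Module.Finite A S]

theorem finite_ext (hε : IsCoUniv φ ε) {a : ℤ} (ha : ω.IsGE a) (hfin : ∀ i, Module.Finite A ((hH A i).obj ω))
    (N : Type u) [AddCommGroup N] [Module A N] [Module S N] [IsScalarTower A S N] [Module.Finite A N] (i : ℤ) :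
    Module.Finite S (Ext Z (ModuleCat.of S N) i) := by
  classical
  obtain ⟨T, hT, hadd, hsmul⟩ := exists_tr hε N i
  haveI := isNoetherian_ext ha hfin (ModuleCat.of A N) i
  obtain ⟨s, hs⟩ := IsNoetherian.noetherian (⊤ : Submodule A (Ext ω (ModuleCat.of A N) i))
  choose g hg using hT.2
  have hT0 : T 0 = 0 := by simpa using hadd 0 0
  refine ⟨⟨s.image g, eq_top_iff.2 fun x _ => ?_⟩⟩
  have hx : T x ∈ Submodule.span A (s : Set (Ext ω (ModuleCat.of A N) i)) := hs ▸ Submodule.mem_top
  suffices ∀ y ∈ Submodule.span A (s : Set (Ext ω (ModuleCat.of A N) i)),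
      g y ∈ Submodule.span S (s.image g : Set (Ext Z (ModuleCat.of S N) i)) by
    have h := this _ hx
    rwa [hT.1 (hg (T x))] at h
  intro y hy
  induction hy using Submodule.span_induction with
  | mem y hy => exact Submodule.subset_span (Finset.mem_coe.2 (Finset.mem_image_of_mem g hy))
  | zero =>
    rw [hT.1 ((hg 0).trans hT0.symm)]
    exact zero_mem _
  | add y z _ _ hy hz =>
    rw [hT.1 ((hg (y + z)).trans (by rw [hadd, hg, hg]) : T (g (y + z)) = T (g y + g z))]
    exact add_mem hy hz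
  | smul r y _ hy =>
    rw [hT.1 ((hg (r • y)).trans (by rw [hsmul, hg]) : T (g (r • y)) = T (φ r • g y))]
    exact Submodule.smul_mem _ _ hy

theorem finite_HD_of (hε : IsCoUniv φ ε) {a : ℤ} (ha : ω.IsGE a) (hfin : ∀ i, Module.Finite A ((hH A i).obj ω))
    (i : ℤ) : Module.Finite S (Dual.HD S Z i) := by
  haveI := finite_ext hε ha hfin S i
  exact Module.Finite.equiv (extHL Z i)

end Tr

section Length

variable {A : Type u} [CommRing A] {ω : Dual.D A}

theorem simple_killed_equiv (m : Ideal A) [m.IsMaximal] {X : Type u} [AddCommGroup X] [Module A X]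
    (N : Submodule A X) (hN : IsSimpleModule A (X ⧸ N)) (hkill : ∀ r ∈ m, ∀ x : X, r • x = 0) (i : ℤ) :
    Nonempty (Ext ω (ModuleCat.of A (X ⧸ N)) i ≃ₗ[A] Ext ω (ModuleCat.of A (A ⧸ m)) i) := by
  obtain ⟨m', hmax, ⟨e0⟩⟩ := isSimpleModule_iff_quot_maximal.1 hN
  obtain rfl : m = m' := Ideal.IsMaximal.eq_of_le inferInstance hmax.ne_top fun r hr => by
    obtain ⟨y, hy⟩ := e0.surjective (Submodule.Quotient.mk 1)
    obtain ⟨x, rfl⟩ := Submodule.Quotient.mk_surjective N y
    have h := congrArg e0 (show r • (Submodule.Quotient.mk x : X ⧸ N) = 0 by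
      rw [← Submodule.Quotient.mk_smul, hkill r hr x, Submodule.Quotient.mk_zero])
    rw [map_smul, map_zero, hy, ← Submodule.Quotient.mk_smul, Submodule.Quotient.mk_eq_zero,
      smul_eq_mul, mul_one] at h
    exact h
  exact ⟨precompL ((DerivedCategory.singleFunctor (ModuleCat.{u} A) 0).mapIso e0.toModuleIso) (ω⟦i⟧)⟩

/-- `Ext` into `ω` of a finite length module killed by `m` is not longer than the module. -/
theorem length_killed (m : Ideal A) [m.IsMaximal] {i : ℤ}
    (hk : Module.length A (Ext ω (ModuleCat.of A (A ⧸ m)) i) ≤ 1)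
    {X : Type u} [AddCommGroup X] [Module A X] (hX : IsFiniteLength A X) :
    (∀ r ∈ m, ∀ x : X, r • x = 0) → Module.length A (Ext ω (ModuleCat.of A X) i) ≤ Module.length A X := by
  induction hX with
  | @of_subsingleton X _ _ _ =>
    intro _
    have h0 : IsZero ((DerivedCategory.singleFunctor (ModuleCat.{u} A) 0).obj (ModuleCat.of A X)) :=
      Functor.map_isZero _ (ModuleCat.isZero_of_subsingleton _)
    haveI : Subsingleton (Ext ω (ModuleCat.of A X) i) := ⟨fun f g => h0.eq_of_src f g⟩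
    rw [Module.length_eq_zero]
    exact bot_le
  | @of_simple_quotient X _ _ N hN _ ih =>
    intro hkill
    obtain ⟨e⟩ := simple_killed_equiv (ω := ω) m N hN hkill i
    let gg : Ext ω (ModuleCat.of A (X ⧸ N)) i →ₗ[A] Ext ω (ModuleCat.of A X) i :=
      extMap ω (ModuleCat.ofHom N.mkQ) i
    let ff : Ext ω (ModuleCat.of A X) i →ₗ[A] Ext ω (ModuleCat.of A N) i :=
      extMap ω (ModuleCat.ofHom N.subtype) i
    have hex : Function.Exact (LinearMap.range gg).subtype ff.rangeRestrict := fun f => by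
      refine ⟨fun hf => ?_, fun ⟨y, hy⟩ => ?_⟩
      · obtain ⟨g, hg⟩ := exists_of_extMap_f_eq_zero (DualBCLib.exists_ses N) i f (congrArg Subtype.val hf)
        exact ⟨⟨f, g, hg.symm⟩, rfl⟩
      · obtain ⟨-, g, rfl⟩ := y
        subst hy
        exact Subtype.ext (extMap_f_extMap_g ω (DualBCLib.exists_ses N) i g)
    rw [Module.length_eq_add_of_exact (LinearMap.range gg).subtype ff.rangeRestrict
      (Submodule.injective_subtype _) (fun ⟨_, x, rfl⟩ => ⟨x, rfl⟩) hex,
      Module.length_eq_add_of_exact N.subtype N.mkQ (Submodule.injective_subtype N) N.mkQ_surjective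
        (LinearMap.exact_subtype_mkQ N), Module.length_eq_one_iff.2 hN, add_comm]
    gcongr
    · exact (Module.length_le_of_injective (LinearMap.range ff).subtype (Submodule.injective_subtype _)).trans
        (ih fun r hr x => Subtype.ext (hkill r hr x))
    · exact (Module.length_le_of_surjective gg.rangeRestrict fun ⟨_, x, rfl⟩ => ⟨x, rfl⟩).trans
        (e.length_eq.le.trans hk)

theorem van_killed (m : Ideal A) [m.IsMaximal] {i : ℤ}
    (hk : Subsingleton (Ext ω (ModuleCat.of A (A ⧸ m)) i))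
    {X : Type u} [AddCommGroup X] [Module A X] (hX : IsFiniteLength A X) :
    (∀ r ∈ m, ∀ x : X, r • x = 0) → Subsingleton (Ext ω (ModuleCat.of A X) i) := by
  induction hX with
  | @of_subsingleton X _ _ _ =>
    intro _
    have h0 : IsZero ((DerivedCategory.singleFunctor (ModuleCat.{u} A) 0).obj (ModuleCat.of A X)) :=
      Functor.map_isZero _ (ModuleCat.isZero_of_subsingleton _)
    exact ⟨fun f g => h0.eq_of_src f g⟩
  | @of_simple_quotient X _ _ N hN _ ih =>
    intro hkill
    obtain ⟨e⟩ := simple_killed_equiv (ω := ω) m N hN hkill i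
    exact subsingleton_ext₂ (DualBCLib.exists_ses N) i (ih fun r hr x => Subtype.ext (hkill r hr x))
      e.toEquiv.subsingleton

end Length

section Main

variable {A S : Type u} [CommRing A] [CommRing S] [Algebra A S] [IsNoetherianRing A] [Module.Finite A S]

local notation "φ" => algebraMap A S

/-- At a maximal ideal of a finite algebra, `Ext` into the couniversal object is one line in one degree. -/
theorem exists_line_closed {ω : Dual.D A} (hω : Dual.IsDualizing A ω) {Z : Dual.D S}
    {ε : (DRing.restrictD φ).obj Z ⟶ ω} (hε : IsCoUniv φ ε) (n : Ideal S) [n.IsMaximal] :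
    ∃ d : ℤ, ¬ Subsingleton (Dual.inD A (A ⧸ n.comap φ) ⟶ ω⟦d⟧) ∧
      (∀ i, i ≠ d → Subsingleton (Ext Z (ModuleCat.of S (S ⧸ n)) i)) ∧
      Nonempty (Ext Z (ModuleCat.of S (S ⧸ n)) d ≃ₗ[S] S ⧸ n) := by
  haveI hm : (n.comap φ).IsMaximal := Ideal.isMaximal_comap_of_isIntegral_of_isMaximal n
  obtain ⟨d, hvan, ⟨line⟩⟩ := ext_residueField_single_degree ω hω (n.comap φ)
  have hk1 : Module.length A (Ext ω (ModuleCat.of A (A ⧸ n.comap φ)) d) = 1 := by
    haveI : IsSimpleModule A (A ⧸ n.comap φ) :=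
      isSimpleModule_iff_quot_maximal.2 ⟨_, hm, ⟨LinearEquiv.refl _ _⟩⟩
    exact line.length_eq.trans (Module.length_eq_one A _)
  have hkill : ∀ r ∈ n.comap φ, ∀ x : S ⧸ n, r • x = 0 := fun r hr x => by
    obtain ⟨y, rfl⟩ := Ideal.Quotient.mk_surjective x
    rw [← algebraMap_smul S r (Ideal.Quotient.mk n y)]
    show Ideal.Quotient.mk n (φ r * y) = 0
    exact Ideal.Quotient.eq_zero_iff_mem.2 (Ideal.mul_mem_right _ _ hr)
  haveI hfl : IsFiniteLength A (S ⧸ n) := by
    letI : Field (A ⧸ n.comap φ) := Ideal.Quotient.field _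
    haveI : Module.Finite A (S ⧸ n) := inferInstance
    haveI : Module.Finite (A ⧸ n.comap φ) (S ⧸ n) := Module.Finite.of_restrictScalars_finite A _ _
    exact isFiniteLength_iff_isNoetherian_isArtinian.2 ⟨inferInstance,
      isArtinian_of_surjective_algebraMap (R := A ⧸ n.comap φ) (S := A) Ideal.Quotient.mk_surjective⟩
  refine ⟨d, fun hsub => ?_, fun i hi => subsingleton_ext_of hε _ i
    (van_killed (n.comap φ) (hvan i hi) hfl hkill), ?_⟩
  · haveI := hsub
    exact zero_ne_one (α := A ⧸ n.comap φ) (line.symm.toEquiv.subsingleton.elim _ _)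
  obtain ⟨T, hT, hadd, hsmul⟩ := exists_tr hε (S ⧸ n) d
  obtain ⟨v, hv⟩ : ∃ v : Ext Z (ModuleCat.of S (S ⧸ n)) d, v ≠ 0 := by
    by_contra! hall
    haveI : Subsingleton (Ext ω (ModuleCat.of A (S ⧸ n)) d) := ⟨fun x y => by
      obtain ⟨x, rfl⟩ := hT.2 x
      obtain ⟨y, rfl⟩ := hT.2 y
      rw [hall x, hall y]⟩
    obtain ⟨s, hs, hsx⟩ := exists_killed_of_van hω (n.comap φ) (S ⧸ n) fun i => by
      by_cases hi : i = d
      · subst hi
        exact van_of_subsingleton
      · haveI := van_killed (n.comap φ) (hvan i hi) hfl hkill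
        exact van_of_subsingleton
    refine hs ?_
    have h := hsx (Ideal.Quotient.mk n 1)
    rw [Algebra.smul_def, map_one, mul_one] at h
    exact Ideal.mem_comap.2 (Ideal.Quotient.eq_zero_iff_mem.1 (show Ideal.Quotient.mk n (φ s) = 0 from h))
  let U : S →ₗ[S] Ext Z (ModuleCat.of S (S ⧸ n)) d := LinearMap.toSpanSingleton S _ v
  have hker : LinearMap.ker U = n :=
    ((Ideal.IsMaximal.eq_of_le inferInstance (fun htop => hv (by
      have h1 : (1 : S) ∈ LinearMap.ker U := htop ▸ Submodule.mem_top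
      simpa [U] using h1)) fun r hr => DualBCLib.smul_ext_eq_zero hr d v)).symm
  let u : (S ⧸ n) →ₗ[S] Ext Z (ModuleCat.of S (S ⧸ n)) d := n.liftQ U hker.ge
  have hu : Function.Injective u := LinearMap.ker_eq_bot.1 (Submodule.ker_liftQ_eq_bot _ _ _ hker.le)
  let Tu : (S ⧸ n) →ₗ[A] Ext ω (ModuleCat.of A (S ⧸ n)) d :=
    { toFun := fun x => T (u x)
      map_add' := fun x y => by rw [map_add, hadd]
      map_smul' := fun r x => by
        rw [RingHom.id_apply, ← hsmul, ← algebraMap_smul S r x, map_smul] }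
  have hTu : Function.Injective Tu := hT.1.comp hu
  have hlenle := length_killed (ω := ω) (n.comap φ) (i := d) hk1.le hfl hkill
  have hTus : LinearMap.range Tu = ⊤ := by
    by_contra hne
    obtain ⟨_, _⟩ := isFiniteLength_iff_isNoetherian_isArtinian.1
      (Module.length_ne_top_iff.1 (ne_top_of_le_ne_top (Module.length_ne_top_iff.2 hfl) hlenle))
    have hlt := Submodule.length_lt hne
    rw [← (LinearEquiv.ofInjective Tu hTu).length_eq] at hlt
    exact absurd hlenle (not_le.2 hlt)
  refine ⟨(LinearEquiv.ofBijective u ⟨hu, fun f => ?_⟩).symm⟩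
  obtain ⟨x, hx⟩ : T f ∈ LinearMap.range Tu := hTus ▸ Submodule.mem_top
  exact ⟨x, hT.1 hx⟩

variable [IsNoetherianRing S]

/-- The couniversal object over a finite algebra of a dualizing complex is dualizing. -/
theorem isDualizing_of_coUniv {ω : Dual.D A} (hω : Dual.IsDualizing A ω) {Z : Dual.D S}
    {ε : (DRing.restrictD φ).obj Z ⟶ ω} (hε : IsCoUniv φ ε) : Dual.IsDualizing S Z := by
  obtain ⟨a, b, hab⟩ := hω.finite_injective_dimension
  have habS := bounds_of hε hab
  have ha : ω.IsGE a :=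
    (DerivedCategory.isGE_iff ω a).2 fun i hi => isZero_of_ext_ring i (hab _ i (Or.inl hi))
  have hfin := finite_HD_of hε ha hω.finite_cohomology
  have hge : Z.IsGE a :=
    (DerivedCategory.isGE_iff Z a).2 fun i hi => isZero_of_ext_ring i (habS _ i (Or.inl hi))
  haveI : ∀ k : {m : Ideal S // m.IsMaximal}, k.1.IsMaximal := fun k => k.2
  have key : ∀ k : {m : Ideal S // m.IsMaximal}, ∃ (Zl : Dual.D (Localization.AtPrime k.1))
      (ηl : Z ⟶ (DRing.restrictD (algebraMap S (Localization.AtPrime k.1))).obj Zl) (d : ℤ),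
      IsUniv (algebraMap S (Localization.AtPrime k.1)) ηl ∧
      IsLocH (algebraMap S (Localization.AtPrime k.1)) k.1.primeCompl ηl ∧ IsPointwiseDual Zl d := fun k => by
    let L := Localization.AtPrime k.1
    haveI : IsNoetherianRing L := IsLocalization.isNoetherianRing k.1.primeCompl _ inferInstance
    obtain ⟨Zl, ηl, hu, hl⟩ := DualBCLib.exists_loc_any (L := L) k.1.primeCompl Z
    obtain ⟨d, -, hvan, ⟨line⟩⟩ := exists_line_closed hω hε k.1
    obtain ⟨hN'⟩ := DualBCLib.nonempty_extend_map (L := L) k.1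
    let hN'' : (ModuleCat.extendScalars.{u, u, u} (algebraMap S L)).obj (ModuleCat.of S (S ⧸ k.1)) ≅
        ModuleCat.of L (IsLocalRing.ResidueField L) :=
      hN' ≪≫ (Submodule.quotEquivOfEq _ _ (Localization.AtPrime.map_eq_maximalIdeal (I := k.1))).toModuleIso
    obtain ⟨ηN, huN, -⟩ := exists_loc_single k.1.primeCompl (ModuleCat.of S (S ⧸ k.1)) hN''
    obtain ⟨hb, hf⟩ := DualBCLib.bounded_sg (ModuleCat.of S (S ⧸ k.1))
    refine ⟨Zl, ηl, d, hu, hl, fun i => finite_HD_loc k.1.primeCompl hl i (hfin i),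
      ⟨a, (DerivedCategory.isGE_iff Zl a).2 fun i hi => not_tor_HD k.1.primeCompl hl i ?_⟩, fun i hi => ?_, ?_⟩
    · haveI : Subsingleton (Dual.HD S Z i) :=
        ModuleCat.subsingleton_of_isZero (DerivedCategory.isZero_of_isGE Z a i hi)
      exact tor_of_subsingleton
    · exact subsingleton_hom_loc k.1.primeCompl huN hl hge hb hf i (hvan i hi)
    · obtain ⟨ℓ, h1, h2⟩ := DualBCLib.exists_loc_hom k.1.primeCompl huN hl hge hb hf d
      obtain ⟨e⟩ := DualBCLib.exists_loc_line k.1.primeCompl ℓ h1 h2 k.1 (line.symm (Submodule.Quotient.mk 1))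
        (fun g => by
          obtain ⟨r, hr⟩ := Submodule.Quotient.mk_surjective k.1 (line g)
          refine ⟨1, k.1.primeCompl.one_mem, r, line.injective ?_⟩
          rw [one_smul, map_smul, line.apply_symm_apply, ← Submodule.Quotient.mk_smul, smul_eq_mul, mul_one, hr])
        (fun r hr => DualBCLib.smul_ext_eq_zero hr d _) fun r hr => ⟨1, k.1.primeCompl.one_mem, by
          rw [← map_smul, LinearEquiv.map_eq_zero_iff, ← Submodule.Quotient.mk_smul, Submodule.Quotient.mk_eq_zero,
            smul_eq_mul, mul_one] at hr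
          rwa [one_mul]⟩
      exact ⟨e.trans (Submodule.quotEquivOfEq _ _ (Localization.AtPrime.map_eq_maximalIdeal (I := k.1)))⟩
  choose Zl ηl d hu hl hd using key
  haveI : ∀ k : {m : Ideal S // m.IsMaximal}, IsNoetherianRing (Localization.AtPrime k.1) := fun k =>
    IsLocalization.isNoetherianRing k.1.primeCompl _ inferInstance
  have hM : Covers fun k : {m : Ideal S // m.IsMaximal} => k.1.primeCompl :=
    fun m hm => ⟨⟨m, hm⟩, fun _ hs => hs⟩
  exact isDualizing_of_local hM hu hl hfin (fun k => isDualizing_of_pointwise (hd k))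
    fun I i hi => habS (S ⧸ I) i hi

variable [IsLocalRing A] [IsLocalRing S] [IsLocalHom (algebraMap A S)]

theorem isNormalized_of_coUniv {ω : Dual.D A} (hω : Dual.IsDualizing A ω) (hn : Dual.IsNormalized A ω)
    {Z : Dual.D S} {ε : (DRing.restrictD φ).obj Z ⟶ ω} (hε : IsCoUniv φ ε) : Dual.IsNormalized S Z := by
  intro i hi
  obtain ⟨d, hne, hvan, -⟩ := exists_line_closed hω hε (IsLocalRing.maximalIdeal S)
  refine hvan i fun hid => hne ?_
  subst hid
  exact ((precompL ((DerivedCategory.singleFunctor (ModuleCat.{u} A) 0).mapIso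
    (Submodule.quotEquivOfEq _ _ (IsLocalRing.maximalIdeal_comap φ).symm).toModuleIso) (ω⟦i⟧)).toEquiv.subsingleton_congr).1 (hn i hi)

end Main

end FinDualLib
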