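import Groth.Agent.DualCxLib.Loc
import Groth.Agent.DerLib.KInjUse
import Mathlib.Algebra.Category.ModuleCat.ChangeOfRings

/-!
# The right adjoint of restriction, objectwise
-/

set_option autoImplicit false
set_option linter.all false
set_option maxHeartbeats 1000000

universe u

open CategoryTheory CategoryTheory.Limits
open Groth.Agent DTen
open DTenLib.Point (hH sg)

attribute [local instance] HasDerivedCategory.standard

noncomputable section

namespace FinDualLib

open Groth.Agent.DualCxLib Groth.Agent.DerLib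

variable {A S : Type u} [CommRing A] [CommRing S] (φ : A →+* S)

/-- `ε` is couniversal. -/
def IsCoUniv {ω : Dual.D A} {Z : Dual.D S} (ε : (DRing.restrictD φ).obj Z ⟶ ω) : Prop :=
  ∀ W : Dual.D S, Function.Bijective fun f : W ⟶ Z => (DRing.restrictD φ).map f ≫ ε

theorem isCoUniv_of_adjunction {R : Dual.D A ⥤ Dual.D S} (adj : DRing.restrictD φ ⊣ R) (ω : Dual.D A) :
    IsCoUniv φ (adj.counit.app ω) := fun W => by
  rw [show (fun f : W ⟶ R.obj ω => (DRing.restrictD φ).map f ≫ adj.counit.app ω) =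
    ⇑(adj.homEquiv W ω).symm from funext fun f => (adj.homEquiv_counit _ _ f).symm]
  exact (adj.homEquiv W ω).symm.bijective

/-- Termwise coinduction. -/
abbrev coextCx : DRing.Cx A ⥤ DRing.Cx S :=
  (ModuleCat.coextendScalars.{u, u, u} φ).mapHomologicalComplex (ComplexShape.up ℤ)

/-- The termwise unit. -/
def unitC (N : DRing.Cx S) : N ⟶ (coextCx φ).obj ((resCx φ).obj N) where
  f i := (ModuleCat.restrictCoextendScalarsAdj.{u} φ).unit.app (N.X i)
  comm' i j _ := ((ModuleCat.restrictCoextendScalarsAdj.{u} φ).unit.naturality (N.d i j)).symm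

/-- The termwise counit. -/
def counitC (I : DRing.Cx A) : (resCx φ).obj ((coextCx φ).obj I) ⟶ I where
  f i := (ModuleCat.restrictCoextendScalarsAdj.{u} φ).counit.app (I.X i)
  comm' i j _ := ((ModuleCat.restrictCoextendScalarsAdj.{u} φ).counit.naturality (I.d i j)).symm

theorem adj_unitC {N : DRing.Cx S} {I : DRing.Cx A} (g : (resCx φ).obj N ⟶ I) :
    (resCx φ).map (unitC φ N ≫ (coextCx φ).map g) ≫ counitC φ I = g :=
  HomologicalComplex.hom_ext _ _ fun i =>
    ((ModuleCat.restrictCoextendScalarsAdj.{u} φ).homEquiv_counit _ _ _).symm.trans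
      ((congrArg ((ModuleCat.restrictCoextendScalarsAdj.{u} φ).homEquiv (N.X i) (I.X i)).symm
        ((ModuleCat.restrictCoextendScalarsAdj.{u} φ).homEquiv_unit _ _ (g.f i)).symm).trans
          (Equiv.symm_apply_apply _ _))

theorem unitC_adj {N : DRing.Cx S} {I : DRing.Cx A} (f : N ⟶ (coextCx φ).obj I) :
    unitC φ N ≫ (coextCx φ).map ((resCx φ).map f ≫ counitC φ I) = f :=
  HomologicalComplex.hom_ext _ _ fun i =>
    ((ModuleCat.restrictCoextendScalarsAdj.{u} φ).homEquiv_unit _ _ _).symm.trans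
      ((congrArg ((ModuleCat.restrictCoextendScalarsAdj.{u} φ).homEquiv (N.X i) (I.X i))
        ((ModuleCat.restrictCoextendScalarsAdj.{u} φ).homEquiv_counit _ _ _).symm).trans
          (Equiv.apply_symm_apply _ _))

theorem quotient_coext_eq_zero {M I : DRing.Cx A} (g : M ⟶ I)
    (h : (HomotopyCategory.quotient _ (ComplexShape.up ℤ)).map g = 0) :
    (HomotopyCategory.quotient _ (ComplexShape.up ℤ)).map ((coextCx φ).map g) = 0 := by
  have H : Homotopy g 0 := HomotopyCategory.homotopyOfEq _ _ (h.trans (Functor.map_zero _ _ _).symm)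
  refine (HomotopyCategory.eq_of_homotopy _ _
    ((ModuleCat.coextendScalars.{u, u, u} φ).mapHomotopy H)).trans ?_
  rw [Functor.map_zero]
  exact Functor.map_zero _ _ _

theorem isKInjective_coext (I : DRing.Cx A) [I.IsKInjective] :
    CochainComplex.IsKInjective ((coextCx φ).obj I) := by
  refine ⟨fun {K} f hK => ⟨HomotopyCategory.homotopyOfEq _ _ ?_⟩⟩
  have hres : ((resCx φ).obj K).Acyclic := fun i => (hK i).map (ModuleCat.restrictScalars.{u} φ)
  have h := quotient_coext_eq_zero φ ((resCx φ).map f ≫ counitC φ I)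
    ((HomotopyCategory.eq_of_homotopy _ _
      (CochainComplex.IsKInjective.homotopyZero _ hres)).trans (Functor.map_zero _ _ _))
  rw [Functor.map_zero, ← unitC_adj φ f, Functor.map_comp, h, comp_zero]

/-- Coinduction of a K-injective complex is couniversal. -/
theorem isCoUniv_coext (I : DRing.Cx A) [I.IsKInjective] :
    IsCoUniv φ ((resFactors φ).hom.app ((coextCx φ).obj I) ≫ DerivedCategory.Q.map (counitC φ I)) := by
  haveI := isKInjective_coext φ I
  intro W
  let N := DerivedCategory.Q.objPreimage W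
  let eW : DerivedCategory.Q.obj N ≅ W := DerivedCategory.Q.objObjPreimageIso W
  have key : ∀ g : N ⟶ (coextCx φ).obj I,
      (DRing.restrictD φ).map (DerivedCategory.Q.map g) ≫ (resFactors φ).hom.app ((coextCx φ).obj I) ≫
        DerivedCategory.Q.map (counitC φ I) =
      (resFactors φ).hom.app N ≫ DerivedCategory.Q.map ((resCx φ).map g ≫ counitC φ I) := fun g => by
    rw [Functor.map_comp]
    exact (reassoc_of% ((resFactors φ).hom.naturality g)) _
  refine ⟨fun f f' hf => ?_, fun ψ => ?_⟩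
  · rw [← sub_eq_zero, ← cancel_epi eW.hom, comp_zero]
    obtain ⟨g, hg⟩ := KInjUse.Q_map_surjective N ((coextCx φ).obj I) (eW.hom ≫ (f - f'))
    rw [← hg]
    have h0 : DerivedCategory.Q.map ((resCx φ).map g ≫ counitC φ I) = 0 := by
      rw [← cancel_epi ((resFactors φ).hom.app N), comp_zero, ← key, hg,
        Functor.map_comp, Functor.map_sub, Preadditive.comp_sub, Preadditive.sub_comp, sub_eq_zero]
      have h := congrArg ((DRing.restrictD φ).map eW.hom ≫ ·) hf
      simpa only [Category.assoc] using h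
    rw [← unitC_adj φ g]
    refine KInjUse.Q_map_zero_of_quotient ?_
    rw [Functor.map_comp, quotient_coext_eq_zero φ _ (KInjUse.quotient_eq_zero_of_Q h0), comp_zero]
  · obtain ⟨g, hg⟩ := KInjUse.Q_map_surjective ((resCx φ).obj N) I
      ((resFactors φ).inv.app N ≫ (DRing.restrictD φ).map eW.hom ≫ ψ)
    refine ⟨eW.inv ≫ DerivedCategory.Q.map (unitC φ N ≫ (coextCx φ).map g), ?_⟩
    show (DRing.restrictD φ).map _ ≫ _ = ψ
    rw [Functor.map_comp, Category.assoc, key, adj_unitC, hg]
    simp only [Category.assoc, Iso.hom_inv_id, Category.comp_id, Iso.hom_inv_id_app_assoc]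
    rw [← Functor.map_comp_assoc, eW.inv_hom_id, CategoryTheory.Functor.map_id, Category.id_comp]

theorem IsCoUniv.postcomp {ω ω' : Dual.D A} {Z : Dual.D S} {ε : (DRing.restrictD φ).obj Z ⟶ ω}
    (h : IsCoUniv φ ε) (e : ω ≅ ω') : IsCoUniv φ (ε ≫ e.hom) := fun W => by
  rw [show (fun f : W ⟶ Z => (DRing.restrictD φ).map f ≫ ε ≫ e.hom) =
    ((Iso.refl _).homCongr e) ∘ (fun f : W ⟶ Z => (DRing.restrictD φ).map f ≫ ε) from funext fun f => by
      simp [Iso.homCongr]]
  exact ((Iso.refl _).homCongr e).bijective.comp (h W)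

/-- Every object of `D(A)` has a couniversal object over `S`. -/
theorem exists_coUniv (ω : Dual.D A) :
    ∃ (Z : Dual.D S) (ε : (DRing.restrictD φ).obj Z ⟶ ω), IsCoUniv φ ε := by
  obtain ⟨I, hI, ⟨e⟩⟩ := KInjUse.exists_iso_Q_kInjective ω
  haveI := hI
  exact ⟨_, _, (isCoUniv_coext φ I).postcomp φ e.symm⟩

/-- Couniversal objects are unique. -/
theorem exists_iso {ω : Dual.D A} {Z Z' : Dual.D S} {ε : (DRing.restrictD φ).obj Z ⟶ ω}
    {ε' : (DRing.restrictD φ).obj Z' ⟶ ω} (h : IsCoUniv φ ε) (h' : IsCoUniv φ ε') :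
    ∃ k : Z ≅ Z', (DRing.restrictD φ).map k.hom ≫ ε' = ε := by
  obtain ⟨g, hg⟩ := (h' Z).2 ε
  obtain ⟨g', hg'⟩ := (h Z').2 ε'
  replace hg : (DRing.restrictD φ).map g ≫ ε' = ε := hg
  replace hg' : (DRing.restrictD φ).map g' ≫ ε = ε' := hg'
  refine ⟨⟨g, g', (h Z).1 ?_, (h' Z').1 ?_⟩, hg⟩
  · show (DRing.restrictD φ).map (g ≫ g') ≫ ε = (DRing.restrictD φ).map (𝟙 Z) ≫ ε
    rw [Functor.map_comp, Category.assoc, hg', hg, CategoryTheory.Functor.map_id, Category.id_comp]
  · show (DRing.restrictD φ).map (g' ≫ g) ≫ ε' = (DRing.restrictD φ).map (𝟙 Z') ≫ ε'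
    rw [Functor.map_comp, Category.assoc, hg, hg', CategoryTheory.Functor.map_id, Category.id_comp]

end FinDualLib
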