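import Groth.Agent.FinDualLib.Finite
import Groth.Agent.DualBCLib.Catenary
import Groth.Agent.DualCxLib.CompleteDual
import Mathlib.RingTheory.EssentialFiniteness

/-!
# Existence of dualizing complexes
-/

set_option autoImplicit false
set_option linter.all false
set_option maxHeartbeats 1000000

universe u

open CategoryTheory CategoryTheory.Limits
open Groth.Agent

attribute [local instance] HasDerivedCategory.standard

noncomputable section

namespace FinDualLib

open Groth.Agent.DualCxLib

theorem exists_dualizing_finite {A S : Type u} [CommRing A] [CommRing S] [Algebra A S] [IsNoetherianRing A]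
    [Module.Finite A S] {ω : Dual.D A} (hω : Dual.IsDualizing A ω) : ∃ Z : Dual.D S, Dual.IsDualizing S Z := by
  haveI : IsNoetherianRing S := Algebra.FiniteType.isNoetherianRing A S
  obtain ⟨Z, ε, hε⟩ := exists_coUniv (algebraMap A S) ω
  exact ⟨Z, isDualizing_of_coUniv hω hε⟩

theorem exists_dualizing_finiteType {A S : Type u} [CommRing A] [CommRing S] [Algebra A S] [IsNoetherianRing A]
    [Algebra.FiniteType A S] {ω : Dual.D A} (hω : Dual.IsDualizing A ω) :
    ∃ Z : Dual.D S, Dual.IsDualizing S Z := by
  obtain ⟨n, f, hf⟩ := Algebra.FiniteType.iff_quotient_mvPolynomial''.1 ‹Algebra.FiniteType A S›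
  obtain ⟨Z, hZ⟩ := DualBCLib.exists_dualizing_mvPolynomial hω n
  letI : Algebra (MvPolynomial (Fin n) A) S := f.toRingHom.toAlgebra
  haveI : Module.Finite (MvPolynomial (Fin n) A) S := Module.Finite.of_surjective (Algebra.linearMap _ S) hf
  exact exists_dualizing_finite hZ

theorem exists_dualizing_essFiniteType {A S : Type u} [CommRing A] [CommRing S] [Algebra A S] [IsNoetherianRing A]
    [Algebra.EssFiniteType A S] {ω : Dual.D A} (hω : Dual.IsDualizing A ω) :
    ∃ Z : Dual.D S, Dual.IsDualizing S Z := by
  obtain ⟨Z, hZ⟩ := exists_dualizing_finiteType (S := Algebra.EssFiniteType.subalgebra A S) hω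
  haveI := hZ.isNoetherianRing
  obtain ⟨Zl, ηl, hu, hl⟩ := DualBCLib.exists_loc_any (L := S) (Algebra.EssFiniteType.submonoid A S) Z
  exact ⟨Zl, isDualizing_loc (Algebra.EssFiniteType.submonoid A S) hZ hu hl⟩

theorem exists_dualizing_complete (A : Type u) [CommRing A] [IsLocalRing A] [IsNoetherianRing A]
    [IsAdicComplete (IsLocalRing.maximalIdeal A) A] : ∃ ω : Dual.D A, Dual.IsDualizing A ω := by
  obtain ⟨C, _, _, g, hg⟩ := exists_regular_surjective A
  haveI := gorenstein_of_regular C
  obtain ⟨ω, hω, -⟩ := exists_normalized_of_gorenstein (S := C)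
  letI : Algebra C A := g.toAlgebra
  haveI : Module.Finite C A := Module.Finite.of_surjective (Algebra.linearMap C A) hg
  exact exists_dualizing_finite hω

end FinDualLib
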