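import Groth.Agent.FinDualLib.CoUniv
import Mathlib.Algebra.Homology.DerivedCategory.ShortExact
import Mathlib.Algebra.Homology.HomologicalComplexAbelian

/-!
# The triangle of a non-zero-divisor
-/

set_option autoImplicit false
set_option linter.all false
set_option maxHeartbeats 1000000

universe u

open CategoryTheory CategoryTheory.Limits CategoryTheory.Pretriangulated
open Groth.Agent DTen

attribute [local instance] HasDerivedCategory.standard

noncomputable section

namespace FinDualLib

open Groth.Agent.DualCxLib Groth.Agent.DerLib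

variable {A : Type u} [CommRing A] (f : A)

/-- Evaluation at `1` from the `f`-torsion of an injective module and multiplication by `f`. -/
theorem shortExact_counit (hf : f ∈ nonZeroDivisors A) (M : ModuleCat.{u} A) [Injective M]
    (h : (ModuleCat.restrictCoextendScalarsAdj.{u} (Ideal.Quotient.mk (Ideal.span {f}))).counit.app M ≫
      (f • 𝟙 M) = 0) :
    (ShortComplex.mk _ _ h).ShortExact := by
  let q := Ideal.Quotient.mk (Ideal.span {f})
  refine { exact := (ShortComplex.moduleCat_exact_iff _).2 fun x hx => ?_, mono_f := ?_, epi_g := ?_ }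
  · change f • (x : M) = 0 at hx
    let l : A →ₗ[A] M := LinearMap.toSpanSingleton A M x
    have hl : Ideal.span {f} ≤ LinearMap.ker l :=
      (Ideal.span_singleton_le_iff_mem _).2 (show f • (x : M) = 0 from hx)
    let g : (A ⧸ Ideal.span {f}) →ₗ[A] M := (Ideal.span {f}).liftQ l hl
    let g' : (ModuleCat.restrictScalars.{u} q).obj (ModuleCat.of _ (A ⧸ Ideal.span {f})) →ₗ[A] M :=
      { toFun := fun z => g z
        map_add' := fun y z => map_add g y z
        map_smul' := fun r z => by
          obtain ⟨z, rfl⟩ := Ideal.Quotient.mk_surjective (show A ⧸ Ideal.span {f} from z)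
          show g (q r * q z) = r • g (q z)
          rw [← map_mul]
          show l (r * z) = r • l z
          exact mul_smul r z x }
    exact ⟨g', (show g (q 1) = x from one_smul A x)⟩
  · refine (ModuleCat.mono_iff_injective _).2 fun (g g' : ((ModuleCat.restrictScalars.{u} q).obj
        (ModuleCat.of _ (A ⧸ Ideal.span {f})) : Type u) →ₗ[A] (M : Type u)) hgg => ?_
    change g (1 : A ⧸ Ideal.span {f}) = g' (1 : A ⧸ Ideal.span {f}) at hgg
    refine LinearMap.ext fun z => ?_
    obtain ⟨r, rfl⟩ := Ideal.Quotient.mk_surjective (show A ⧸ Ideal.span {f} from z)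
    have hr : (Ideal.Quotient.mk (Ideal.span {f}) r : A ⧸ Ideal.span {f}) =
        (show (ModuleCat.restrictScalars.{u} q).obj (ModuleCat.of _ (A ⧸ Ideal.span {f})) from
          r • (show (ModuleCat.restrictScalars.{u} q).obj (ModuleCat.of _ (A ⧸ Ideal.span {f})) from (1 : A ⧸ Ideal.span {f}))) :=
      (mul_one _).symm
    rw [hr]
    exact (map_smul g r _).trans ((congrArg (r • ·) hgg).trans (map_smul g' r _).symm)
  · refine (ModuleCat.epi_iff_surjective _).2 fun y => ?_
    let μ : ModuleCat.of A A ⟶ ModuleCat.of A A := f • 𝟙 _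
    haveI : Mono μ := (ModuleCat.mono_iff_injective _).2 fun a b hab => by
      change f * a = f * b at hab
      exact (mul_cancel_left_mem_nonZeroDivisors hf).1 hab
    let k : ModuleCat.of A A ⟶ M := ModuleCat.ofHom (LinearMap.toSpanSingleton A M y)
    refine ⟨(Injective.factorThru k μ).hom (1 : A), ?_⟩
    have hk := congr($(Injective.comp_factorThru k μ).hom (1 : A))
    change (Injective.factorThru k μ).hom (f • (1 : A)) = (1 : A) • (y : M) at hk
    rw [map_smul, one_smul] at hk
    exact hk

/-- The triangle of multiplication by a non-zero-divisor. -/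
theorem exists_triangle_nzd (hf : f ∈ nonZeroDivisors A) {ω : Dual.D A} {Z : Dual.D (A ⧸ Ideal.span {f})}
    {ε : (DRing.restrictD (Ideal.Quotient.mk (Ideal.span {f}))).obj Z ⟶ ω}
    (hε : IsCoUniv (Ideal.Quotient.mk (Ideal.span {f})) ε) :
    ∃ w : ω ⟶ ((DRing.restrictD (Ideal.Quotient.mk (Ideal.span {f}))).obj Z)⟦(1 : ℤ)⟧,
      Triangle.mk ε (f • 𝟙 ω) w ∈ distinguishedTriangles := by
  let q := Ideal.Quotient.mk (Ideal.span {f})
  let K := DerivedCategory.Q.objPreimage ω
  obtain ⟨I, r, hI, hr, hinj⟩ := KInjRes.exists_resolution K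
  haveI := hI
  haveI := hinj
  haveI : QuasiIso r := (HomologicalComplex.mem_quasiIso_iff _).1 hr.2
  let e : DerivedCategory.Q.obj I ≅ ω :=
    (asIso (DerivedCategory.Q.map r)).symm ≪≫ DerivedCategory.Q.objObjPreimageIso ω
  let c := counitC q I
  have h0 : c ≫ (f • 𝟙 I) = 0 := HomologicalComplex.hom_ext _ _ fun i =>
    ModuleCat.hom_ext (LinearMap.ext fun (g : ((ModuleCat.restrictScalars.{u} q).obj
        (ModuleCat.of _ (A ⧸ Ideal.span {f})) : Type u) →ₗ[A] (I.X i : Type u)) => by
      show f • (g (1 : A ⧸ Ideal.span {f})) = 0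
      refine (map_smul g f _).symm.trans ?_
      refine Eq.trans (congrArg g ?_) (map_zero g)
      show q f * (1 : A ⧸ Ideal.span {f}) = 0
      rw [mul_one]
      exact Ideal.Quotient.eq_zero_iff_mem.2 (Ideal.mem_span_singleton_self f))
  have hS : (ShortComplex.mk c (f • 𝟙 I) h0).ShortExact :=
    HomologicalComplex.shortExact_of_degreewise_shortExact _ fun i =>
      shortExact_counit f hf (I.X i) (congrArg (fun φ => φ.f i) h0)
  obtain ⟨k, hk⟩ := exists_iso q hε ((isCoUniv_coext q I).postcomp q e)
  let k' : (DRing.restrictD q).obj Z ≅ DerivedCategory.Q.obj ((resCx q).obj ((coextCx q).obj I)) :=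
    (DRing.restrictD q).mapIso k ≪≫ (resFactors q).app _
  refine ⟨e.inv ≫ DerivedCategory.triangleOfSESδ hS ≫ k'.inv⟦(1 : ℤ)⟧', ?_⟩
  refine isomorphic_distinguished _ (DerivedCategory.triangleOfSES_distinguished hS) _
    (Triangle.isoMk _ _ k' e.symm e.symm ?_ ?_ ?_)
  · show ε ≫ e.inv = k'.hom ≫ DerivedCategory.Q.map c
    rw [Iso.comp_inv_eq, ← hk]
    show (DRing.restrictD q).map k.hom ≫ ((resFactors q).hom.app _ ≫ DerivedCategory.Q.map c) ≫ e.hom =
      (((DRing.restrictD q).map k.hom ≫ (resFactors q).hom.app _) ≫ DerivedCategory.Q.map c) ≫ e.hom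
    simp only [Category.assoc]
  · show (f • 𝟙 ω) ≫ e.inv = e.inv ≫ DerivedCategory.Q.map (f • 𝟙 I)
    rw [Functor.map_smul, CategoryTheory.Functor.map_id, Linear.smul_comp, Category.id_comp, Linear.comp_smul]
    exact (congrArg (f • ·) (Category.comp_id e.inv)).symm
  · show (e.inv ≫ DerivedCategory.triangleOfSESδ hS ≫ k'.inv⟦(1 : ℤ)⟧') ≫ k'.hom⟦(1 : ℤ)⟧' =
      e.inv ≫ DerivedCategory.triangleOfSESδ hS
    simp only [Category.assoc]
    rw [← Functor.map_comp, k'.inv_hom_id, CategoryTheory.Functor.map_id]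
    exact congrArg (e.inv ≫ ·) (Category.comp_id _)

end FinDualLib
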