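import Groth.Agent.FinDualLib.QuotTri
import Groth.Agent.DualCxLib.FinLen
import Groth.Agent.DualCxLib.InjAmp

/-!
# The triangle of a quotient by an ideal of finite length
-/

set_option autoImplicit false
set_option linter.all false
set_option maxHeartbeats 1000000

universe u

open CategoryTheory CategoryTheory.Limits CategoryTheory.Pretriangulated HomologicalComplex
open Groth.Agent DTen
open DTenLib.Point (hH sg)

attribute [local instance] HasDerivedCategory.standard

noncomputable section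

namespace FinDualLib

open Groth.Agent.DualCxLib Groth.Agent.DerLib

variable {A : Type u} [CommRing A]

/-- Evaluation at `1` and restriction to the ideal. -/
def evalIdeal (I : Ideal A) (M : ModuleCat.{u} A) : M ⟶ ModuleCat.of A (I →ₗ[A] M) :=
  ModuleCat.ofHom
    { toFun := fun x => (LinearMap.toSpanSingleton A M x).comp I.subtype
      map_add' := fun x y => LinearMap.ext fun r => smul_add (r : A) x y
      map_smul' := fun c x => LinearMap.ext fun r => smul_comm (r : A) c x }

theorem shortExact_evalIdeal (I : Ideal A) (M : ModuleCat.{u} A) [Injective M]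
    (h : (ModuleCat.restrictCoextendScalarsAdj.{u} (Ideal.Quotient.mk I)).counit.app M ≫ evalIdeal I M = 0) :
    (ShortComplex.mk _ _ h).ShortExact := by
  let q := Ideal.Quotient.mk I
  refine { exact := (ShortComplex.moduleCat_exact_iff _).2 fun x hx => ?_, mono_f := ?_, epi_g := ?_ }
  · let l : A →ₗ[A] M := LinearMap.toSpanSingleton A M x
    have hl : I ≤ LinearMap.ker l := fun r hr => LinearMap.congr_fun hx ⟨r, hr⟩
    let g : (A ⧸ I) →ₗ[A] M := I.liftQ l hl
    let g' : (ModuleCat.restrictScalars.{u} q).obj (ModuleCat.of _ (A ⧸ I)) →ₗ[A] M :=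
      { toFun := fun z => g z
        map_add' := fun y z => map_add g y z
        map_smul' := fun r z => by
          obtain ⟨z, rfl⟩ := Ideal.Quotient.mk_surjective (show A ⧸ I from z)
          show g (q r * q z) = r • g (q z)
          rw [← map_mul]
          show l (r * z) = r • l z
          exact mul_smul r z x }
    exact ⟨g', (show g (q 1) = x from one_smul A x)⟩
  · refine (ModuleCat.mono_iff_injective _).2 fun (g g' : ((ModuleCat.restrictScalars.{u} q).obj
        (ModuleCat.of _ (A ⧸ I)) : Type u) →ₗ[A] (M : Type u)) hgg => ?_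
    change g (1 : A ⧸ I) = g' (1 : A ⧸ I) at hgg
    refine LinearMap.ext fun z => ?_
    obtain ⟨r, rfl⟩ := Ideal.Quotient.mk_surjective (show A ⧸ I from z)
    have hr : (Ideal.Quotient.mk I r : A ⧸ I) =
        (show (ModuleCat.restrictScalars.{u} q).obj (ModuleCat.of _ (A ⧸ I)) from
          r • (show (ModuleCat.restrictScalars.{u} q).obj (ModuleCat.of _ (A ⧸ I)) from (1 : A ⧸ I))) :=
      (mul_one _).symm
    rw [hr]
    exact (map_smul g r _).trans ((congrArg (r • ·) hgg).trans (map_smul g' r _).symm)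
  · refine (ModuleCat.epi_iff_surjective _).2 fun (y : I →ₗ[A] M) => ?_
    let μ : ModuleCat.of A I ⟶ ModuleCat.of A A := ModuleCat.ofHom I.subtype
    haveI : Mono μ := (ModuleCat.mono_iff_injective _).2 Subtype.val_injective
    let k : ModuleCat.of A I ⟶ M := ModuleCat.ofHom y
    refine ⟨(Injective.factorThru k μ).hom (1 : A), LinearMap.ext fun r => ?_⟩
    show (r : A) • (Injective.factorThru k μ).hom (1 : A) = y r
    rw [← map_smul, smul_eq_mul, mul_one]
    exact congr($(Injective.comp_factorThru k μ).hom r)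

/-- `Hom(N, J)`. -/
def homFrom (N : Type u) [AddCommGroup N] [Module A N] (J : DRing.Cx A) : DRing.Cx A where
  X i := ModuleCat.of A (N →ₗ[A] J.X i)
  d i j := ModuleCat.ofHom ((J.d i j).hom.compRight A)
  shape i j h := ModuleCat.hom_ext (LinearMap.ext fun φ => LinearMap.ext fun x => by
    show (J.d i j).hom (φ x) = 0
    rw [J.shape i j h]
    rfl)
  d_comp_d' i j k _ _ := ModuleCat.hom_ext (LinearMap.ext fun φ => LinearMap.ext fun x => by
    show (J.d i j ≫ J.d j k).hom (φ x) = 0
    rw [J.d_comp_d]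
    rfl)

/-- The map of complexes. -/
def evalCx (I : Ideal A) (J : DRing.Cx A) : J ⟶ homFrom I J where
  f i := evalIdeal I (J.X i)
  comm' i j _ := ModuleCat.hom_ext (LinearMap.ext fun x => LinearMap.ext fun r =>
    map_smul (J.d i j).hom (r : A) x)

variable (N : Type u) [AddCommGroup N] [Module A N] (J : DRing.Cx A)

/-- A cocycle as a map from the single complex. -/
def cyc (i : ℤ) (φ : LinearMap.ker ((J.d i (i + 1)).hom.compRight A (M := N))) :
    (single (ModuleCat.{u} A) (ComplexShape.up ℤ) i).obj (ModuleCat.of A N) ⟶ J :=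
  mkHomFromSingle (ModuleCat.ofHom φ.1) fun k hk => by
    obtain rfl : i + 1 = k := hk
    exact ModuleCat.hom_ext φ.2

/-- The class of a cocycle. -/
def classMap (i : ℤ) : LinearMap.ker ((J.d i (i + 1)).hom.compRight A (M := N)) →ₗ[A]
    (sg (ModuleCat.of A N) i ⟶ DerivedCategory.Q.obj J) where
  toFun φ := ((DerivedCategory.singleFunctorIsoCompQ (ModuleCat.{u} A) i).app (ModuleCat.of A N)).hom ≫
    DerivedCategory.Q.map (cyc N J i φ)
  map_add' φ ψ := by
    have : cyc N J i (φ + ψ) = cyc N J i φ + cyc N J i ψ := from_single_hom_ext (by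
      simp only [cyc, add_f_apply, mkHomFromSingle_f]
      rw [← Preadditive.comp_add]
      rfl)
    exact (congrArg (_ ≫ ·) ((congrArg DerivedCategory.Q.map this).trans (DerivedCategory.Q.map_add))).trans
      (Preadditive.comp_add _ _ _ _ _ _)
  map_smul' r φ := by
    have : cyc N J i (r • φ) = r • cyc N J i φ := from_single_hom_ext (by
      simp only [cyc, smul_f_apply, mkHomFromSingle_f]
      rw [← Linear.comp_smul]
      rfl)
    exact (congrArg (_ ≫ ·) ((congrArg DerivedCategory.Q.map this).trans (DerivedCategory.Q.map_smul _ _))).trans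
      (Linear.comp_smul _ _ _ _ _ _)

variable [J.IsKInjective]

theorem classMap_surjective (i : ℤ) : Function.Surjective (classMap N J i) := fun g => by
  let s := (DerivedCategory.singleFunctorIsoCompQ (ModuleCat.{u} A) i).app (ModuleCat.of A N)
  obtain ⟨F, hF⟩ : ∃ F : (single (ModuleCat.{u} A) (ComplexShape.up ℤ) i).obj (ModuleCat.of A N) ⟶ J,
      DerivedCategory.Q.map F = s.inv ≫ g := KInjUse.Q_map_surjective _ J (s.inv ≫ g)
  let φ : N →ₗ[A] J.X i := ((singleObjXSelf (ComplexShape.up ℤ) i (ModuleCat.of A N)).inv ≫ F.f i).hom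
  have hφ : φ ∈ LinearMap.ker ((J.d i (i + 1)).hom.compRight A (M := N)) := by
    refine congrArg ModuleCat.Hom.hom (?_ : ((singleObjXSelf (ComplexShape.up ℤ) i (ModuleCat.of A N)).inv ≫ F.f i) ≫
      J.d i (i + 1) = 0)
    rw [Category.assoc, F.comm i (i + 1), single_obj_d, zero_comp, comp_zero]
  refine ⟨⟨φ, hφ⟩, ?_⟩
  have : cyc N J i ⟨φ, hφ⟩ = F := from_single_hom_ext (by
    simp only [cyc, mkHomFromSingle_f]
    exact Iso.hom_inv_id_assoc _ _)
  exact (congrArg (s.hom ≫ ·) ((congrArg DerivedCategory.Q.map this).trans hF)).trans (Iso.hom_inv_id_assoc _ _)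

theorem classMap_eq_zero_iff (i : ℤ) (φ : LinearMap.ker ((J.d i (i + 1)).hom.compRight A (M := N))) :
    classMap N J i φ = 0 ↔ ∃ w : N →ₗ[A] J.X (i - 1), (J.d (i - 1) i).hom.comp w = φ.1 := by
  let s := singleObjXSelf (ComplexShape.up ℤ) i (ModuleCat.of A N)
  let s' := (DerivedCategory.singleFunctorIsoCompQ (ModuleCat.{u} A) i).app (ModuleCat.of A N)
  constructor
  · intro h
    have hQ : DerivedCategory.Q.map (cyc N J i φ) = 0 := by
      refine (cancel_epi s'.hom).1 (h.trans comp_zero.symm)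
    have H : Homotopy (cyc N J i φ) 0 := HomotopyCategory.homotopyOfEq _ _
      ((KInjUse.quotient_eq_zero_of_Q hQ).trans (Functor.map_zero _ _ _).symm)
    refine ⟨(s.inv ≫ H.hom i (i - 1)).hom, ?_⟩
    have hc := H.comm i
    rw [dNext_eq _ (show (ComplexShape.up ℤ).Rel i (i + 1) from rfl),
      prevD_eq _ (show (ComplexShape.up ℤ).Rel (i - 1) i from sub_add_cancel i 1), single_obj_d, zero_comp,
      zero_f, add_zero, zero_add] at hc
    simp only [cyc, mkHomFromSingle_f] at hc
    rw [← Iso.eq_inv_comp] at hc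
    refine Eq.trans ?_ (congrArg ModuleCat.Hom.hom hc).symm
    rw [← Category.assoc]
    rfl
  · rintro ⟨w, hw⟩
    let hm : ∀ p q, (ComplexShape.up ℤ).Rel q p →
        (((single (ModuleCat.{u} A) (ComplexShape.up ℤ) i).obj (ModuleCat.of A N)).X p ⟶ J.X q) := fun p q hpq =>
      if hp : p = i then
        eqToHom (by rw [hp]) ≫ s.hom ≫ ModuleCat.ofHom w ≫ eqToHom (by
          obtain rfl : q = i - 1 := by have : q + 1 = p := hpq; omega
          rfl)
      else 0
    have : cyc N J i φ = Homotopy.nullHomotopicMap' hm := from_single_hom_ext (by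
      rw [Homotopy.nullHomotopicMap'_f (show (ComplexShape.up ℤ).Rel (i - 1) i from sub_add_cancel i 1)
        (show (ComplexShape.up ℤ).Rel i (i + 1) from rfl), single_obj_d, zero_comp, zero_add]
      simp only [hm, dif_pos rfl, eqToHom_refl, Category.id_comp, Category.comp_id, cyc, mkHomFromSingle_f,
        Category.assoc]
      exact congrArg (s.hom ≫ ·) (ModuleCat.hom_ext hw.symm))
    show s'.hom ≫ DerivedCategory.Q.map (cyc N J i φ) = 0
    exact (congrArg (s'.hom ≫ ·) ((congrArg DerivedCategory.Q.map this).trans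
      (KInjUse.Q_map_zero_of_quotient ((HomotopyCategory.eq_of_homotopy _ _ (Homotopy.nullHomotopy' hm)).trans
        (Functor.map_zero _ _ _))))).trans comp_zero

theorem exactAt_homFrom (i : ℤ) (h : Subsingleton (sg (ModuleCat.of A N) i ⟶ DerivedCategory.Q.obj J)) :
    (homFrom N J).ExactAt i := by
  rw [exactAt_iff' _ (i - 1) i (i + 1) (by simp) (by simp)]
  exact (ShortComplex.moduleCat_exact_iff _).2 fun φ hφ =>
    (classMap_eq_zero_iff N J i ⟨φ, hφ⟩).1 (Subsingleton.elim (α := sg (ModuleCat.of A N) i ⟶ DerivedCategory.Q.obj J) _ _)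

theorem nonempty_homology_homFrom (i : ℤ) :
    Nonempty (((homFrom N J).homology i : ModuleCat.{u} A) ≃ₗ[A] (sg (ModuleCat.of A N) i ⟶ DerivedCategory.Q.obj J)) := by
  let S := (homFrom N J).sc' (i - 1) i (i + 1)
  let e : (homFrom N J).homology i ≅ S.moduleCatLeftHomologyData.H :=
    ShortComplex.homologyMapIso ((homFrom N J).isoSc' (i - 1) i (i + 1) (by simp) (by simp)) ≪≫ S.moduleCatHomologyIso
  have hk : LinearMap.range S.moduleCatToCycles = LinearMap.ker (classMap N J i) := by
    refine Submodule.ext fun φ => ?_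
    show _ ↔ classMap N J i φ = 0
    refine Iff.trans ⟨fun ⟨w, hw⟩ => ⟨w, congrArg Subtype.val hw⟩, fun ⟨w, hw⟩ => ⟨w, Subtype.ext hw⟩⟩
      (classMap_eq_zero_iff N J i φ).symm
  exact ⟨e.toLinearEquiv.trans ((Submodule.quotEquivOfEq _ _ hk).trans
    ((classMap N J i).quotKerEquivOfSurjective (classMap_surjective N J i)))⟩

theorem exists_triangle_finLen [IsLocalRing A] [IsNoetherianRing A] {ω : Dual.D A} (hω : Dual.IsDualizing A ω)
    (hn : Dual.IsNormalized A ω) (I : Ideal A) (hIl : IsFiniteLength A I)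
    {E : Type u} [AddCommGroup E] [Module A E] {f : IsLocalRing.ResidueField A →ₗ[A] E}
    (hf : InjHull.IsInjectiveHull f) {Z : Dual.D (A ⧸ I)}
    {ε : (DRing.restrictD (Ideal.Quotient.mk I)).obj Z ⟶ ω} (hε : IsCoUniv (Ideal.Quotient.mk I) ε) :
    ∃ (v : ω ⟶ Dual.inD A (I →ₗ[A] E))
      (w : Dual.inD A (I →ₗ[A] E) ⟶ ((DRing.restrictD (Ideal.Quotient.mk I)).obj Z)⟦(1 : ℤ)⟧),
      Triangle.mk ε v w ∈ distinguishedTriangles := by
  let q := Ideal.Quotient.mk I
  let K := DerivedCategory.Q.objPreimage ω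
  obtain ⟨L, r, hL, hr, hinj⟩ := KInjRes.exists_resolution K
  haveI := hL
  haveI := hinj
  haveI : QuasiIso r := (HomologicalComplex.mem_quasiIso_iff _).1 hr.2
  let e : DerivedCategory.Q.obj L ≅ ω :=
    (asIso (DerivedCategory.Q.map r)).symm ≪≫ DerivedCategory.Q.objObjPreimageIso ω
  let c := counitC q L
  have h0 : c ≫ evalCx I L = 0 := HomologicalComplex.hom_ext _ _ fun i =>
    ModuleCat.hom_ext (LinearMap.ext fun (g : ((ModuleCat.restrictScalars.{u} q).obj
        (ModuleCat.of _ (A ⧸ I)) : Type u) →ₗ[A] (L.X i : Type u)) => LinearMap.ext fun x => by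
      show (x : A) • (g (1 : A ⧸ I)) = 0
      refine (map_smul g (x : A) _).symm.trans ?_
      refine Eq.trans (congrArg g ?_) (map_zero g)
      show q (x : A) * (1 : A ⧸ I) = 0
      rw [mul_one]
      exact Ideal.Quotient.eq_zero_iff_mem.2 x.2)
  have hS : (ShortComplex.mk c (evalCx I L) h0).ShortExact :=
    HomologicalComplex.shortExact_of_degreewise_shortExact _ fun i =>
      shortExact_evalIdeal I (L.X i) (congrArg (fun φ => φ.f i) h0)
  let T := DerivedCategory.Q.obj (homFrom I L)
  have hv : ∀ i, i ≠ 0 → IsZero ((hH A i).obj T) := fun i hi =>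
    ((exactAt_iff_isZero_homology _ i).1 (exactAt_homFrom I L i (by
      haveI := subsingleton_ext_finLen (ω := ω) hn I hIl i hi
      exact ((Iso.refl _).homCongr e).subsingleton_congr.2
        ((sgHomEquiv _ ω i).subsingleton_congr.2 inferInstance)))).of_iso
      ((DerivedCategory.homologyFunctorFactors (ModuleCat.{u} A) i).app _)
  haveI : T.IsGE 0 := (DerivedCategory.isGE_iff T 0).2 fun j hj => hv j hj.ne
  haveI : T.IsLE 0 := (DerivedCategory.isLE_iff T 0).2 fun j hj => hv j hj.ne'
  obtain ⟨X, ⟨eX⟩⟩ := DerivedCategory.exists_iso_singleFunctor_obj_of_isGE_of_isLE T 0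
  obtain ⟨e1⟩ := nonempty_ext_finLen hω hn hf I hIl
  obtain ⟨e2⟩ := nonempty_homology_homFrom I L 0
  let e0 : (X : Type u) ≃ₗ[A] (I →ₗ[A] E) :=
    ((DTenLib.Point.sgH X 0).symm ≪≫ (hH A 0).mapIso eX.symm ≪≫
      (DerivedCategory.homologyFunctorFactors (ModuleCat.{u} A) 0).app _).toLinearEquiv.trans
      (e2.trans ((postcompL _ e).trans e1))
  let eT : DerivedCategory.Q.obj (homFrom I L) ≅ Dual.inD A (I →ₗ[A] E) :=
    eX ≪≫ (DerivedCategory.singleFunctor (ModuleCat.{u} A) 0).mapIso
      ((e0.toModuleIso : ModuleCat.of A X ≅ ModuleCat.of A (I →ₗ[A] E)))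
  obtain ⟨k, hk⟩ := exists_iso q hε ((isCoUniv_coext q L).postcomp q e)
  let k' : (DRing.restrictD q).obj Z ≅ DerivedCategory.Q.obj ((resCx q).obj ((coextCx q).obj L)) :=
    (DRing.restrictD q).mapIso k ≪≫ (resFactors q).app _
  refine ⟨e.inv ≫ DerivedCategory.Q.map (evalCx I L) ≫ eT.hom,
    eT.inv ≫ DerivedCategory.triangleOfSESδ hS ≫ k'.inv⟦(1 : ℤ)⟧', ?_⟩
  refine isomorphic_distinguished _ (DerivedCategory.triangleOfSES_distinguished hS) _
    (Triangle.isoMk _ _ k' e.symm eT.symm ?_ ?_ ?_)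
  · show ε ≫ e.inv = k'.hom ≫ DerivedCategory.Q.map c
    rw [Iso.comp_inv_eq, ← hk]
    show (DRing.restrictD q).map k.hom ≫ ((resFactors q).hom.app _ ≫ DerivedCategory.Q.map c) ≫ e.hom =
      (((DRing.restrictD q).map k.hom ≫ (resFactors q).hom.app _) ≫ DerivedCategory.Q.map c) ≫ e.hom
    simp only [Category.assoc]
  · show (e.inv ≫ DerivedCategory.Q.map (evalCx I L) ≫ eT.hom) ≫ eT.inv = e.inv ≫ DerivedCategory.Q.map (evalCx I L)
    simp only [Category.assoc, Iso.hom_inv_id]
    exact congrArg (e.inv ≫ ·) (Category.comp_id _)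
  · show (eT.inv ≫ DerivedCategory.triangleOfSESδ hS ≫ k'.inv⟦(1 : ℤ)⟧') ≫ k'.hom⟦(1 : ℤ)⟧' =
      eT.inv ≫ DerivedCategory.triangleOfSESδ hS
    simp only [Category.assoc]
    rw [← Functor.map_comp, k'.inv_hom_id, CategoryTheory.Functor.map_id]
    exact congrArg (eT.inv ≫ ·) (Category.comp_id _)

end FinDualLib
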